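import Groth.Agent.VAmpleX.Eventually
import Groth.Agent.AmpleX.Comp
import Groth.Agent.AmpleX.RelAffine
import Groth.Agent.AmpleX.QAHom
import Groth.Agent.AmpleX.Proj
import Groth.Agent.ProjUPX.Sections
import Groth.Agent.PnCoh.Chow.Proper

/-!
# Very ample modules over an affine base are ample
-/

universe u

set_option backward.isDefEq.respectTransparency false
set_option backward.isDefEq.respectTransparency.types false
set_option linter.style.haveILetI false
set_option maxHeartbeats 800000

open CategoryTheory CategoryTheory.Limits AlgebraicGeometry TopologicalSpace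

namespace Groth.Agent.VAmpleX

open Groth.Agent

/-- A very ample module relative to a quasi-compact morphism to an affine scheme is ample. -/
theorem isAmple_of_isRelVeryAmplePn {X Y : Scheme.{u}} [IsAffine Y] (q : X ⟶ Y) [QuasiCompact q] {L : X.Modules}
    (h : RelAmple.IsRelVeryAmplePn q L) : CohB1.IsAmple L := by
  classical
  obtain ⟨n, i, hi, hc, ⟨e⟩⟩ := h
  let A := ULift.{u} ℤ
  let fst : CohB1.ProjSpaceOver n Y ⟶ CohB1.ProjSpace n A :=
    pullback.fst (CohB1.ProjSpace.toSpec n A) (specULiftZIsTerminal.from Y)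
  let T := Finset.image (fun j : Fin (n + 1) => (MvPolynomial.X j : MvPolynomial (Fin (n + 1)) A)) Finset.univ
  have hT : CohB1.IsAmple (Twist.twist (CohB1.polyGrading n A) 1) := by
    refine AmpleX.isAmple_twist_one (CohB1.polyGrading n A) T (fun f hf => ?_) (top_le_iff.1 fun y _ => ?_)
    · obtain ⟨j, -, rfl⟩ := Finset.mem_image.1 hf
      exact ProjPt.X_mem j
    · obtain ⟨j, hj⟩ := ProjUPX.cov_X y
      exact Opens.mem_iSup.2 ⟨⟨_, Finset.mem_image.2 ⟨j, Finset.mem_univ _, rfl⟩⟩, hj⟩
  haveI : CompactSpace (CohB1.ProjSpace n A) := hT.2.1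
  haveI := PnCoh.Chow.isProper_toSpec n A
  have h1 := (AmpleX.isRelAmple_iff_isAmple (CohB1.ProjSpace.toSpec n A) _).2 hT
  haveI : IsAffineHom fst := MorphismProperty.pullback_fst (P := @IsAffineHom) _ _ inferInstance
  have hqa : Mor2.IsQuasiAffine fst := ⟨inferInstance, fun V hV => by
    haveI : IsAffine (fst ⁻¹ᵁ V : Scheme) := hV.preimage fst
    infer_instance⟩
  have h2 := AmpleX.isRelAmple_pullback_quasiAffine (CohB1.ProjSpace.toSpec n A) fst hqa h1
  haveI : QuasiCompact i := by
    haveI : QuasiCompact (i ≫ pullback.snd (CohB1.ProjSpace.toSpec n A) (specULiftZIsTerminal.from Y)) := by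
      rw [hc]; infer_instance
    exact QuasiCompact.of_comp i (pullback.snd (CohB1.ProjSpace.toSpec n A) (specULiftZIsTerminal.from Y))
  have h3 := AmpleX.isRelAmple_pullback_embedding _ i i.isEmbedding h2
  haveI : QuasiCompact (i ≫ fst ≫ CohB1.ProjSpace.toSpec n A) := inferInstance
  exact AmpleX.isAmple_of_iso e.symm ((AmpleX.isRelAmple_iff_isAmple _ _).1 h3)

end Groth.Agent.VAmpleX
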