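import Groth.Agent.VAmpleX.Immersion

/-!
# High powers of an ample module tensored with an invertible one are very ample
-/

universe u

set_option backward.isDefEq.respectTransparency false
set_option backward.isDefEq.respectTransparency.types false
set_option linter.style.haveILetI false
set_option maxHeartbeats 800000

open CategoryTheory CategoryTheory.Limits AlgebraicGeometry TopologicalSpace

namespace Groth.Agent.VAmpleX

open Groth.Agent Groth.Agent.H23 Groth.Agent.InvX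

theorem locus_tmul {X : Scheme.{u}} {A B : X.Modules} (hA : PicF.IsInvertible A) (hB : PicF.IsInvertible B)
    (a : Γ(A, ⊤)) (b : Γ(B, ⊤)) :
    TrivBasic.locus (InvX.tmul a b) = TrivBasic.locus a ⊓ TrivBasic.locus b := by
  have h := genLocus_mulHom hA hB (ofSect a) (ofSect b)
  rwa [mulHom, one_ofSect, one_ofSect] at h

/-- A section that is `g` times a frame-to-be: its locus. -/
theorem locus_inf_eq_basicOpen {X : Scheme.{u}} {A : X.Modules} (T : Γ(A, ⊤)) {U : X.Opens} (g : Γ(X, U))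
    (E : Γ(A, U)) (hT : AModX.res A (le_top : U ≤ ⊤) T = g • E)
    (hE : InvX.IsFrame (AModX.res A (le_top : X.basicOpen g ≤ ⊤) T)) :
    TrivBasic.locus T ⊓ U = X.basicOpen g := by
  refine le_antisymm (fun x hx => ?_) (le_inf (TrivBasic.le_locus hE) (X.basicOpen_le g))
  by_contra hg
  obtain ⟨W, hxW, hW⟩ := TrivBasic.mem_locus_iff.1 hx.1
  have hb := hW.germ_bijective hxW
  rw [germ_res' (le_top : W ≤ ⊤) hxW] at hb
  have h1 : A.presheaf.germ ⊤ x trivial T = X.presheaf.germ U x hx.2 g • A.presheaf.germ U x hx.2 E := by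
    rw [← QCoh.germ_smul', ← hT, germ_res']
  have hm : X.presheaf.germ U x hx.2 g ∈ IsLocalRing.maximalIdeal (X.presheaf.stalk x) := fun hu =>
    hg ((X.mem_basicOpen g x hx.2).2 hu)
  obtain ⟨c, hc⟩ := hb.2 (A.presheaf.germ U x hx.2 E)
  dsimp only at hc
  have hu : IsUnit (1 - c * X.presheaf.germ U x hx.2 g) :=
    IsLocalRing.isUnit_one_sub_self_of_mem_nonunits _ (Ideal.mul_mem_left _ c hm)
  have h0 : A.presheaf.germ U x hx.2 E = 0 := by
    refine hu.smul_left_cancel.1 ?_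
    rw [smul_zero, sub_smul, one_smul, mul_smul, ← h1, hc, sub_self]
  rw [h0, smul_zero] at h1
  exact zero_ne_one (hb.1 (show (0 : X.presheaf.stalk x) • _ = (1 : X.presheaf.stalk x) • _ by
    rw [h1, smul_zero, smul_zero]))

set_option maxHeartbeats 1600000 in
/-- The sections `Z i o ⊗ s i` give an immersion, once they restrict to the generators on the charts. -/
theorem veryAmple_of_extend {X Y : Scheme.{u}} [IsAffine Y] (q : X ⟶ Y) {A P : X.Modules}
    (hA : PicF.IsInvertible A) (hP : PicF.IsInvertible P) {ι : Type u} [Fintype ι] (U : ι → X.Opens)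
    (haff : ∀ i, IsAffineOpen (U i)) (s : ι → Γ(P, ⊤)) (hs : ∀ i, TrivBasic.locus (s i) = U i)
    (g : ∀ i, Γ(X, U i)) (hcov : ∀ x : X, ∃ i, x ∈ X.basicOpen (g i)) (E : ∀ i, Γ(A, U i))
    (hE : ∀ i, InvX.IsFrame (AModX.res A (X.basicOpen_le (g i)) (E i))) (G : ∀ i, Finset Γ(X, U i))
    (hG : ∀ i (R : Subring Γ(X, U i)), Set.range (baseFn q (U i)) ⊆ (R : Set Γ(X, U i)) →
      (G i : Set Γ(X, U i)) ⊆ (R : Set Γ(X, U i)) → R = ⊤)
    (Z0 Z1 : ι → Γ(A, ⊤)) (hZ0 : ∀ i, AModX.res A (le_top : U i ≤ ⊤) (Z0 i) = g i • E i)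
    (hZ1 : ∀ i, AModX.res A (le_top : U i ≤ ⊤) (Z1 i) = E i)
    (Z : ∀ i, G i → Γ(A, ⊤)) (hZ : ∀ i b, AModX.res A (le_top : U i ≤ ⊤) (Z i b) = (b.1 * g i) • E i) :
    RelAmple.IsRelVeryAmplePn q (CohB1.tensorMod A P) := by
  classical
  have hgu : ∀ i, IsUnit (AModX.resR (X.basicOpen_le (g i)) (g i)) := fun i =>
    RingedSpace.isUnit_res_basicOpen X.toRingedSpace (g i)
  obtain ⟨v, hv⟩ : ∃ v : ∀ i, Γ(X, X.basicOpen (g i)), ∀ i, AModX.resR (X.basicOpen_le (g i)) (g i) * v i = 1 :=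
    ⟨fun i => ↑(hgu i).unit⁻¹, fun i => (hgu i).mul_val_inv⟩
  have hloc : ∀ i, TrivBasic.locus (InvX.tmul (Z0 i) (s i)) = X.basicOpen (g i) := fun i => by
    rw [locus_tmul hA hP, hs]
    refine locus_inf_eq_basicOpen _ (g i) (E i) (hZ0 i) ?_
    rw [← AModX.res_res (le_top : U i ≤ ⊤) (X.basicOpen_le (g i)), hZ0, AModX.res_smul]
    exact (hE i).isUnit_smul (hgu i)
  have key : ∀ i (z : Γ(A, ⊤)) (c : Γ(X, U i)), AModX.res A (le_top : U i ≤ ⊤) z = c • E i →
      AModX.res (CohB1.tensorMod A P) (le_top : X.basicOpen (g i) ≤ ⊤) (InvX.tmul z (s i)) =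
        AModX.resR (X.basicOpen_le (g i)) c • InvX.tmul (AModX.res A (X.basicOpen_le (g i)) (E i))
          (AModX.res P (le_top : X.basicOpen (g i) ≤ ⊤) (s i)) := fun i z c h => by
    rw [res_tmul, ← AModX.res_res (le_top : U i ≤ ⊤) (X.basicOpen_le (g i)) z, h, AModX.res_smul,
      InvX.tmul_smul_left]
  refine exists_immersion' q _ (InvX.isInvertible_tensorMod hA hP) (fun i => InvX.tmul (Z0 i) (s i))
    (fun i => X.basicOpen (g i)) hloc (fun i => (haff i).basicOpen _) hcov (fun i => Option (G i))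
    (fun i o => o.elim (v i) fun b => AModX.resR (X.basicOpen_le (g i)) b.1)
    (fun i o => InvX.tmul (o.elim (Z1 i) (Z i)) (s i)) (fun i o => ?_) fun i R h1 h2 => ?_
  · rw [key i (Z0 i) (g i) (hZ0 i)]
    rcases o with _ | b <;> dsimp only [Option.elim]
    · rw [key i (Z1 i) 1 ((hZ1 i).trans (one_smul _ _).symm), map_one, one_smul]
      show _ = v i • _
      rw [← mul_smul, mul_comm, hv, one_smul]
    · rw [key i (Z i b) _ (hZ i b), map_mul, mul_smul]
  · have hU : ∀ z, AModX.resR (X.basicOpen_le (g i)) z ∈ R := fun z => by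
      have h3 := hG i (R.comap (AModX.resR (X.basicOpen_le (g i)))) (by
        rintro _ ⟨c, rfl⟩
        refine h1 ⟨c, ?_⟩
        show (q.appLE ⊤ _ le_top) c = (X.presheaf.map (homOfLE (X.basicOpen_le (g i))).op) ((q.appLE ⊤ _ le_top) c)
        rw [← CommRingCat.comp_apply, Scheme.Hom.appLE_map]) fun b hb => h2 ⟨some ⟨b, hb⟩, rfl⟩
      exact h3.ge (Subring.mem_top z)
    refine top_le_iff.1 fun z _ => ?_
    haveI := (haff i).isLocalization_basicOpen (g i)
    obtain ⟨⟨a, ⟨_, j, rfl⟩⟩, hz⟩ := IsLocalization.surj (Submonoid.powers (g i)) z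
    have hz' : z * AModX.resR (X.basicOpen_le (g i)) (g i) ^ j = AModX.resR (X.basicOpen_le (g i)) a := by
      rw [← map_pow]
      exact hz
    rw [show z = AModX.resR (X.basicOpen_le (g i)) a * v i ^ j by
      rw [← hz', mul_assoc, ← mul_pow, hv, one_pow, mul_one]]
    exact R.mul_mem (hU a) (R.pow_mem (h2 ⟨none, rfl⟩) j)

set_option maxHeartbeats 2000000 in
theorem exists_bound_residue {X Y : Scheme.{u}} [IsAffine Y] (q : X ⟶ Y) [IsSeparated q] [LocallyOfFiniteType q]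
    [CompactSpace X] {L'' P : X.Modules} (hL'' : PicF.IsInvertible L'') (hP : PicF.IsInvertible P) {κ : Type u}
    [Fintype κ] (σ : κ → (Coh.structureModule X ⟶ P)) (haff : ∀ k, IsAffineOpen (CohB1.genLocus P (σ k)))
    (hcov : ∀ x : X, ∃ k, x ∈ CohB1.genLocus P (σ k)) :
    ∃ m₀, ∀ m, m₀ ≤ m → RelAmple.IsRelVeryAmplePn q
      (CohB1.tensorMod (CohB1.tensorMod L'' (CohB1.tensorPow P m)) P) := by
  classical
  haveI : X.IsSeparated := ⟨by
    rw [← Limits.terminal.comp_from q]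
    infer_instance⟩
  have hq := ProjUPX.isQCoh_of_isInvertible hL''
  -- charts
  have hx : ∀ x : X, ∃ (k : κ) (g : Γ(X, CohB1.genLocus P (σ k))) (t : Γ(L'', CohB1.genLocus P (σ k))),
      x ∈ X.basicOpen g ∧ InvX.IsFrame (AModX.res L'' (X.basicOpen_le g) t) := by
    intro x
    obtain ⟨k, hk⟩ := hcov x
    obtain ⟨O, hxO, e, he⟩ := exists_frame hL'' x
    obtain ⟨g, hg, hxg⟩ := (haff k).exists_basicOpen_le ⟨x, hxO⟩ hk
    obtain ⟨N, t, ht⟩ := QCoh.exists_pow_smul_eq_map hq (haff k) g (AModX.res L'' hg e)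
    refine ⟨k, g, t, hxg, ?_⟩
    rw [show AModX.res L'' (X.basicOpen_le g) t = _ from ht]
    exact (he.res hg).isUnit_smul ((RingedSpace.isUnit_res_basicOpen X.toRingedSpace g).pow N)
  choose k g t hxg ht using hx
  obtain ⟨Sx, hSx⟩ := isCompact_univ.elim_finite_subcover (fun x => (X.basicOpen (g x) : Set X))
    (fun x => (X.basicOpen (g x)).2) (fun x _ => Set.mem_iUnion.2 ⟨x, hxg x⟩)
  have hgenU : ∀ x, ∃ G : Finset Γ(X, CohB1.genLocus P (σ (k x))),
      ∀ R : Subring Γ(X, CohB1.genLocus P (σ (k x))),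
        Set.range (baseFn q (CohB1.genLocus P (σ (k x)))) ⊆ (R : Set Γ(X, CohB1.genLocus P (σ (k x)))) →
          (G : Set Γ(X, CohB1.genLocus P (σ (k x)))) ⊆ (R : Set Γ(X, CohB1.genLocus P (σ (k x)))) → R = ⊤ := fun x => by
    letI := (baseFn q (CohB1.genLocus P (σ (k x)))).toAlgebra
    obtain ⟨G, hG⟩ := (show Algebra.FiniteType Γ(Y, ⊤) Γ(X, CohB1.genLocus P (σ (k x))) from
      q.finiteType_appLE (isAffineOpen_top _) (haff (k x)) le_top).out
    refine ⟨G, fun S h1 h2 => top_le_iff.1 fun z hz0 => ?_⟩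
    clear hz0
    have hz : z ∈ Algebra.adjoin Γ(Y, ⊤) (G : Set Γ(X, CohB1.genLocus P (σ (k x)))) := hG ▸ Algebra.mem_top
    induction hz using Algebra.adjoin_induction with
    | mem y hy => exact h2 hy
    | algebraMap c => exact h1 ⟨c, rfl⟩
    | add y z _ _ hy hz => exact S.add_mem hy hz
    | mul y z _ _ hy hz => exact S.mul_mem hy hz
  choose G hG using hgenU
  -- sections to extend: coefficients times `t`
  let ι := ↥Sx
  let coef : ∀ x : ι, Option (Option (G x.1)) → Γ(X, CohB1.genLocus P (σ (k x.1))) := fun x o =>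
    o.elim (g x.1) fun o' => o'.elim 1 fun b => b.1 * g x.1
  choose n₀ hn₀ using fun p : Σ x : ι, Option (Option (G x.1)) =>
    AmpleX.exists_extend hq hP (σ (k p.1.1)) (coef p.1 p.2 • t p.1.1)
  refine ⟨Finset.univ.sup n₀, fun m hm => ?_⟩
  choose Z hZ using fun p : Σ x : ι, Option (Option (G x.1)) =>
    hn₀ p m ((Finset.le_sup (Finset.mem_univ p)).trans hm)
  have hA := InvX.isInvertible_tensorMod hL'' (InvX.isInvertible_tensorPow hP m)
  have hσ : ∀ x, TrivBasic.locus (one (σ x)) = CohB1.genLocus P (σ x) := fun x => by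
    have h1 : InvX.ofSect (one (σ x)) = σ x := sub_eq_zero.1 (AmpleX.eq_zero_of_one_eq_zero _ (by
      show one (ofSect (one (σ x))) - one (σ x) = 0
      rw [one_ofSect, sub_self]))
    show CohB1.genLocus P (InvX.ofSect (one (σ x))) = _
    rw [h1]
  refine veryAmple_of_extend q hA hP (fun x : ι => CohB1.genLocus P (σ (k x.1))) (fun x => haff _)
    (fun x => one (σ (k x.1))) (fun x => hσ _) (fun x => g x.1) (fun p => ?_)
    (fun x => InvX.tmul (t x.1) (AmpleX.powElt
      (AModX.res P (le_top : CohB1.genLocus P (σ (k x.1)) ≤ ⊤) (one (σ (k x.1)))) m)) (fun x => ?_)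
    (fun x => G x.1) (fun x => hG x.1) (fun x => Z ⟨x, none⟩) (fun x => Z ⟨x, some none⟩) (fun x => ?_) (fun x => ?_)
    (fun x b => Z ⟨x, some (some b)⟩) fun x b => ?_
  · obtain ⟨x, hx, hp⟩ := Set.mem_iUnion₂.1 (hSx (Set.mem_univ p))
    exact ⟨⟨x, hx⟩, hp⟩
  · rw [res_tmul, AmpleX.res_powElt, AModX.res_res]
    refine isFrame_tmul (ht x.1) (AmpleX.isFrame_powElt ?_ m)
    exact TrivBasic.isFrame_res_of_le_locus ((X.basicOpen_le _).trans (hσ (k x.1)).ge)
  · rw [hZ ⟨x, none⟩, InvX.tmul_smul_left]; rfl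
  · rw [hZ ⟨x, some none⟩, InvX.tmul_smul_left]; exact one_smul _ _
  · rw [hZ ⟨x, some (some b)⟩, InvX.tmul_smul_left]; rfl

/-- High powers of an ample module, tensored with an invertible one, are very ample. -/
theorem eventually_veryAmple {X Y : Scheme.{u}} [IsAffine Y] (q : X ⟶ Y) [IsSeparated q] [LocallyOfFiniteType q]
    {L L' : X.Modules} (hL : CohB1.IsAmple L) (hL' : PicF.IsInvertible L') :
    ∃ n₀ : ℕ, ∀ n : ℕ, n₀ ≤ n → RelAmple.IsRelVeryAmplePn q (CohB1.tensorMod (CohB1.tensorPow L n) L') := by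
  classical
  haveI : CompactSpace X := hL.2.1
  haveI : X.IsSeparated := ⟨by
    rw [← Limits.terminal.comp_from q]
    infer_instance⟩
  obtain ⟨a, ha, κ, _, σ, haff, -, hcov⟩ := AmpleX.exists_cover_genLocus hL
  have hP := InvX.isInvertible_tensorPow hL.1 a
  choose m₀ hm₀ using fun r : Fin a => exists_bound_residue q
    (InvX.isInvertible_tensorMod (InvX.isInvertible_tensorPow hL.1 r.1) hL') hP σ haff hcov
  refine ⟨a * (Finset.univ.sup m₀ + 1), fun n hn => ?_⟩
  let r : Fin a := ⟨n % a, Nat.mod_lt _ ha⟩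
  have h1 : Finset.univ.sup m₀ + 1 ≤ n / a := (Nat.le_div_iff_mul_le ha).2 (by rwa [mul_comm])
  obtain ⟨m, hm⟩ := Nat.exists_eq_add_of_le' (le_trans (Nat.le_add_left 1 _) h1)
  have h2 := hm₀ r m (by have := Finset.le_sup (f := m₀) (Finset.mem_univ r); omega)
  have hn' : n = r.1 + a * m + a := by
    have := Nat.mod_add_div n a
    rw [hm, Nat.mul_add, mul_one] at this
    show n = n % a + a * m + a
    omega
  letI := PicMul.clMonoid X
  have hcl : PicF.cl (CohB1.tensorMod (CohB1.tensorMod (CohB1.tensorMod (CohB1.tensorPow L r.1) L')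
      (CohB1.tensorPow (CohB1.tensorPow L a) m)) (CohB1.tensorPow L a)) =
      PicF.cl (CohB1.tensorMod (CohB1.tensorPow L n) L') := by
    simp only [PicMul.cl_tensor, PicMul.cl_tensorPow]
    rw [hn', pow_add, pow_add, pow_mul]
    ac_rfl
  obtain ⟨e⟩ := PicMul.cl_eq_iff.1 hcl
  exact isRelVeryAmplePn_of_iso q e h2

end Groth.Agent.VAmpleX
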