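import Groth.Agent.Lib.AmpleEmbed
import Groth.Prelude.Def_LCI2

/-!
# Immersions into projective space over an affine base from sections with affine loci
-/

universe u

set_option backward.isDefEq.respectTransparency false
set_option backward.isDefEq.respectTransparency.types false
set_option linter.style.haveILetI false
set_option maxHeartbeats 800000

open CategoryTheory CategoryTheory.Limits AlgebraicGeometry TopologicalSpace HomogeneousLocalization

namespace Groth.Agent.VAmpleX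

open Groth.Agent Groth.Agent.H23

/-- Global functions on the base, as functions on an open of the source. -/
noncomputable def baseFn {X Y : Scheme.{u}} (q : X ⟶ Y) (U : X.Opens) : Γ(Y, ⊤) →+* Γ(X, U) :=
  (q.appLE ⊤ U le_top).hom

theorem isImmersion_of_closed_on {X Z : Scheme.{u}} (i : X ⟶ Z) {κ : Type u} (W : κ → Z.Opens)
    (hcov : ∀ x : X, ∃ k, i.base x ∈ W k) (h : ∀ k, IsClosedImmersion (i ∣_ W k)) : IsImmersion i := by
  let E : Z.Opens := ⨆ k, W k
  have hE : i ⁻¹ᵁ E = ⊤ := eq_top_iff.2 fun x _ => by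
    obtain ⟨k, hk⟩ := hcov x
    exact Opens.mem_iSup.2 ⟨k, hk⟩
  haveI : IsClosedImmersion (i ∣_ E) := by
    refine IsZariskiLocalAtTarget.of_iSup_eq_top (P := @IsClosedImmersion) (fun k => E.ι ⁻¹ᵁ W k) ?_ fun k => ?_
    · refine eq_top_iff.2 fun z _ => ?_
      obtain ⟨k, hk⟩ := Opens.mem_iSup.1 z.2
      exact Opens.mem_iSup.2 ⟨k, hk⟩
    · refine ((MorphismProperty.arrow_mk_iso_iff @IsClosedImmersion (morphismRestrictRestrict i E (E.ι ⁻¹ᵁ W k) ≪≫
        morphismRestrictEq i ?_)).2 (h k))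
      rw [Scheme.Hom.image_preimage_eq_opensRange_inf, Scheme.Opens.opensRange_ι]
      exact inf_eq_right.2 (le_iSup W k)
  haveI : IsIso (i ⁻¹ᵁ E).ι := by
    rw [hE]
    exact inferInstanceAs (IsIso X.topIso.hom)
  have e : i = inv (i ⁻¹ᵁ E).ι ≫ (i ∣_ E) ≫ E.ι := by
    rw [IsIso.eq_inv_comp, morphismRestrict_ι]
  rw [e]
  infer_instance

/-- An invertible module with sections as below is very ample for the projection to an affine base. -/
theorem exists_immersion {X Y : Scheme.{u}} [IsAffine Y] (q : X ⟶ Y) (M : X.Modules) (hM : PicF.IsInvertible M)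
    {κ : Type u} [Fintype κ] (S : κ → Γ(M, ⊤)) (haff : ∀ i, IsAffineOpen (TrivBasic.locus (S i)))
    (hcov : ∀ x : X, ∃ i, x ∈ TrivBasic.locus (S i)) (β : κ → Type u) [∀ i, Fintype (β i)]
    (b : ∀ i, β i → Γ(X, TrivBasic.locus (S i))) (T : ∀ i, β i → Γ(M, ⊤))
    (hT : ∀ i j, AModX.res M (le_top : TrivBasic.locus (S i) ≤ ⊤) (T i j) =
      b i j • AModX.res M (le_top : TrivBasic.locus (S i) ≤ ⊤) (S i))
    (hgen : ∀ i (P : Subring Γ(X, TrivBasic.locus (S i))),
      Set.range (baseFn q (TrivBasic.locus (S i))) ⊆ P → Set.range (b i) ⊆ P → P = ⊤) :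
    RelAmple.IsRelVeryAmplePn q M := by
  classical
  obtain ⟨n, ⟨e⟩⟩ : ∃ n, Nonempty (Fin (n + 1) ≃ Option (κ ⊕ Σ i, β i)) :=
    ⟨Fintype.card (κ ⊕ Σ i, β i), ⟨(finCongr Fintype.card_option.symm).trans (Fintype.equivFin _).symm⟩⟩
  let el : Option (κ ⊕ Σ i, β i) → Γ(M, ⊤) := fun o => o.elim 0 (Sum.elim S fun p => T p.1 p.2)
  let s : Fin (n + 1) → Γ(M, ⊤) := fun j => el (e j)
  have hs : ProjUP.GeneratedBy M s := fun x => by
    obtain ⟨i, hi⟩ := hcov x
    refine eq_top_iff.2 fun z _ => ?_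
    obtain ⟨c, hc⟩ := ((TrivBasic.isFrame_res_of_le_locus (le_refl (TrivBasic.locus (S i)))).germ_bijective hi).2 z
    rw [← hc]
    refine Submodule.smul_mem _ c (Submodule.subset_span ⟨e.symm (some (Sum.inl i)), ?_⟩)
    show (M.presheaf.germ ⊤ x trivial).hom (el (e (e.symm _))) = _
    rw [Equiv.apply_symm_apply]
    exact (InvX.germ_res' (le_top : TrivBasic.locus (S i) ≤ ⊤) hi (S i)).symm
  obtain ⟨r, -, τ, hτ⟩ := S3572.result n (specULiftZIsTerminal.from X) M hM s hs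
  let fst : CohB1.ProjSpaceOver n Y ⟶ CohB1.ProjSpace n (ULift.{u} ℤ) :=
    pullback.fst (CohB1.ProjSpace.toSpec n (ULift.{u} ℤ)) (specULiftZIsTerminal.from Y)
  let snd : CohB1.ProjSpaceOver n Y ⟶ Y :=
    pullback.snd (CohB1.ProjSpace.toSpec n (ULift.{u} ℤ)) (specULiftZIsTerminal.from Y)
  let i : X ⟶ CohB1.ProjSpaceOver n Y := pullback.lift r q (specULiftZIsTerminal.hom_ext _ _)
  have hi1 : i ≫ fst = r := pullback.lift_fst _ _ _
  have hi2 : i ≫ snd = q := pullback.lift_snd _ _ _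
  refine ⟨n, i, ?_, hi2, ⟨τ.symm ≪≫ (Scheme.Modules.pullbackCongr hi1.symm).app _ ≪≫
    ((Scheme.Modules.pullbackComp i fst).app _).symm⟩⟩
  let D : κ → (CohB1.ProjSpace n (ULift.{u} ℤ)).Opens := fun k =>
    Proj.basicOpen (CohB1.polyGrading n (ULift.{u} ℤ)) (MvPolynomial.X (e.symm (some (Sum.inl k))))
  have hτS : ∀ k, τ.hom.app ⊤ (ProjUP.pullSec r _ (ProjUP.coord n (ULift.{u} ℤ) (e.symm (some (Sum.inl k))))) = S k :=
    fun k => by rw [hτ]; show el _ = _; rw [Equiv.apply_symm_apply]; rfl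
  have hτT : ∀ p : Σ i, β i,
      τ.hom.app ⊤ (ProjUP.pullSec r _ (ProjUP.coord n (ULift.{u} ℤ) (e.symm (some (Sum.inr p))))) = T p.1 p.2 :=
    fun p => by rw [hτ]; show el _ = _; rw [Equiv.apply_symm_apply]; rfl
  have hpre : ∀ k, r ⁻¹ᵁ D k = TrivBasic.locus (S k) := fun k => AmpleEmbed.preimage_chart r τ _ (hτS k)
  let W : κ → (CohB1.ProjSpaceOver n Y).Opens := fun k => fst ⁻¹ᵁ D k
  have hpreW : ∀ k, i ⁻¹ᵁ W k = TrivBasic.locus (S k) := fun k => by
    rw [← hpre k, ← Scheme.Hom.comp_preimage, hi1]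
  refine isImmersion_of_closed_on i W (fun x => ?_) fun k => ?_
  · obtain ⟨k, hk⟩ := hcov x
    exact ⟨k, show x ∈ i ⁻¹ᵁ W k from (hpreW k).ge hk⟩
  haveI : IsAffineHom fst :=
    MorphismProperty.pullback_fst (P := @IsAffineHom) _ _ inferInstance
  haveI : IsAffine (W k : Scheme) :=
    (Proj.isAffineOpen_basicOpen _ _ (ProjPt.X_mem _) one_pos).preimage fst
  haveI : IsAffine (i ⁻¹ᵁ W k : Scheme) := by rw [hpreW]; exact haff k
  refine IsClosedImmersion.of_surjective_of_isAffine _ ?_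
  have hsurj : Function.Surjective (i.appLE (W k) (TrivBasic.locus (S k)) (hpreW k).ge) := by
    refine RingHom.range_eq_top.1 (hgen k _ ?_ ?_)
    · rintro _ ⟨c, rfl⟩
      refine ⟨snd.appLE ⊤ (W k) le_top c, ?_⟩
      rw [← CommRingCat.comp_apply, Scheme.Hom.appLE_comp_appLE]
      simp only [hi2]
      rfl
    · rintro _ ⟨j, rfl⟩
      refine ⟨fst.appLE (D k) (W k) le_rfl
        ((Proj.awayToSection (CohB1.polyGrading n (ULift.{u} ℤ)) (MvPolynomial.X (e.symm (some (Sum.inl k))))).hom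
          (Away.mk (CohB1.polyGrading n (ULift.{u} ℤ)) (ProjPt.X_mem _) 1
            (MvPolynomial.X (e.symm (some (Sum.inr ⟨k, j⟩)))) (by rw [one_smul]; exact ProjPt.X_mem _))), ?_⟩
      rw [← CommRingCat.comp_apply, Scheme.Hom.appLE_comp_appLE]
      simp only [hi1]
      exact AmpleEmbed.ratioOf_eq r τ _ _ (hτS k) (hτT ⟨k, j⟩) (hpre k).ge (b k j) (hT k j)
  intro z
  rw [morphismRestrict_appTop]
  obtain ⟨y, hy⟩ := hsurj (X.presheaf.map (eqToHom (hpreW k).symm).op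
    ((i ⁻¹ᵁ W k).topIso.hom z))
  refine ⟨(W k).topIso.inv y, (ConcreteCategory.bijective_of_isIso (i ⁻¹ᵁ W k).topIso.hom).1 ?_⟩
  apply (ConcreteCategory.bijective_of_isIso (X.presheaf.map (eqToHom (hpreW k).symm).op)).1
  rw [← hy]
  simp only [← CommRingCat.comp_apply]
  congr 2
  simp only [Scheme.Hom.appLE, Scheme.Opens.topIso, Category.assoc]
  simp [← Functor.map_comp]
  rw [i.naturality_assoc, ← Functor.map_comp]
  rfl

/-- The same with names for the loci. -/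
theorem exists_immersion' {X Y : Scheme.{u}} [IsAffine Y] (q : X ⟶ Y) (M : X.Modules) (hM : PicF.IsInvertible M)
    {κ : Type u} [Fintype κ] (S : κ → Γ(M, ⊤)) (V : κ → X.Opens) (hV : ∀ i, TrivBasic.locus (S i) = V i)
    (haff : ∀ i, IsAffineOpen (V i)) (hcov : ∀ x : X, ∃ i, x ∈ V i) (β : κ → Type u) [∀ i, Fintype (β i)]
    (b : ∀ i, β i → Γ(X, V i)) (T : ∀ i, β i → Γ(M, ⊤))
    (hT : ∀ i j, AModX.res M (le_top : V i ≤ ⊤) (T i j) = b i j • AModX.res M (le_top : V i ≤ ⊤) (S i))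
    (hgen : ∀ i (P : Subring Γ(X, V i)), Set.range (baseFn q (V i)) ⊆ P → Set.range (b i) ⊆ P → P = ⊤) :
    RelAmple.IsRelVeryAmplePn q M := by
  obtain rfl : V = fun i => TrivBasic.locus (S i) := funext fun i => (hV i).symm
  exact exists_immersion q M hM S haff hcov β b T hT hgen

theorem isRelVeryAmplePn_of_iso {X Y : Scheme.{u}} (q : X ⟶ Y) {M M' : X.Modules} (e : M ≅ M')
    (h : RelAmple.IsRelVeryAmplePn q M) : RelAmple.IsRelVeryAmplePn q M' := by
  obtain ⟨n, i, hi, hc, ⟨j⟩⟩ := h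
  exact ⟨n, i, hi, hc, ⟨e.symm ≪≫ j⟩⟩

end Groth.Agent.VAmpleX
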