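import Groth.Agent.VAmpleX.Immersion
import Groth.Agent.SegreX.Basic
import Groth.Agent.ProjUPX.Sections

/-!
# A very ample module tensored with a generated one is very ample
-/

universe u

set_option backward.isDefEq.respectTransparency false
set_option backward.isDefEq.respectTransparency.types false
set_option linter.style.haveILetI false
set_option maxHeartbeats 800000

open CategoryTheory CategoryTheory.Limits AlgebraicGeometry TopologicalSpace HomogeneousLocalization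

namespace Groth.Agent.VAmpleX

open Groth.Agent Groth.Agent.H23 Groth.Agent.InvX

/-- Immersions are local on the target, for maps landing in the pieces. -/
theorem isImmersion_of_immersion_on {X Z : Scheme.{u}} (i : X ⟶ Z) {κ : Type u} (W : κ → Z.Opens)
    (hcov : ∀ x : X, ∃ k, i.base x ∈ W k) (h : ∀ k, IsImmersion (i ∣_ W k)) : IsImmersion i := by
  let E : Z.Opens := ⨆ k, W k
  have hE : i ⁻¹ᵁ E = ⊤ := eq_top_iff.2 fun x _ => by
    obtain ⟨k, hk⟩ := hcov x
    exact Opens.mem_iSup.2 ⟨k, hk⟩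
  haveI : IsImmersion (i ∣_ E) := by
    refine IsZariskiLocalAtTarget.of_iSup_eq_top (P := @IsImmersion) (fun k => E.ι ⁻¹ᵁ W k) ?_ fun k => ?_
    · refine eq_top_iff.2 fun z _ => ?_
      obtain ⟨k, hk⟩ := Opens.mem_iSup.1 z.2
      exact Opens.mem_iSup.2 ⟨k, hk⟩
    · refine ((MorphismProperty.arrow_mk_iso_iff @IsImmersion (morphismRestrictRestrict i E (E.ι ⁻¹ᵁ W k) ≪≫
        morphismRestrictEq i ?_)).2 (h k))
      rw [Scheme.Hom.image_preimage_eq_opensRange_inf, Scheme.Opens.opensRange_ι]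
      exact inf_eq_right.2 (le_iSup W k)
  haveI : IsIso (i ⁻¹ᵁ E).ι := by
    rw [hE]
    exact inferInstanceAs (IsIso X.topIso.hom)
  have e : i = inv (i ⁻¹ᵁ E).ι ≫ (i ∣_ E) ≫ E.ι := by
    rw [IsIso.eq_inv_comp, morphismRestrict_ι]
  rw [e]
  infer_instance

/-- Generating sections have loci covering the scheme. -/
theorem exists_mem_locus_of_generatedBy {X : Scheme.{u}} {L : X.Modules} (hL : PicF.IsInvertible L) {κ : Type*}
    {s : κ → Γ(L, ⊤)} (hs : ProjUP.GeneratedBy L s) (x : X) : ∃ i, x ∈ TrivBasic.locus (s i) := by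
  by_contra! hne
  obtain ⟨U, hxU, e, he⟩ := exists_frame hL x
  have hb := he.germ_bijective hxU
  let ψ := LinearMap.toSpanSingleton (X.presheaf.stalk x) (L.presheaf.stalk x) (L.presheaf.germ U x hxU e)
  have hle : Submodule.span (X.presheaf.stalk x) (Set.range fun i => (L.presheaf.germ ⊤ x trivial).hom (s i)) ≤
      Submodule.map ψ (IsLocalRing.maximalIdeal (X.presheaf.stalk x)) := by
    refine Submodule.span_le.2 ?_
    rintro _ ⟨i, rfl⟩
    obtain ⟨γ, hγ⟩ := he.exists_coord le_rfl (AModX.res L (le_top : U ≤ ⊤) (s i))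
    rw [AModX.res_self] at hγ
    refine ⟨X.presheaf.germ U x hxU γ, fun hu => hne i ?_, ?_⟩
    · have h2 : x ∈ TrivBasic.locus (s i) ⊓ U := by
        rw [TrivBasic.locus_eq_basicOpen he hγ, X.mem_basicOpen _ x hxU]
        exact hu
      exact h2.1
    · show X.presheaf.germ U x hxU γ • L.presheaf.germ U x hxU e = L.presheaf.germ ⊤ x trivial (s i)
      rw [← QCoh.germ_smul', ← hγ, InvX.germ_res']
  obtain ⟨c, hc, hce⟩ := ((hs x).ge.trans hle) (Submodule.mem_top (x := L.presheaf.germ U x hxU e))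
  have h1 : c = 1 := hb.1 (show c • L.presheaf.germ U x hxU e = (1 : X.presheaf.stalk x) • L.presheaf.germ U x hxU e
    from hce.trans (one_smul _ _).symm)
  exact (IsLocalRing.mem_maximalIdeal _).1 hc (h1 ▸ isUnit_one)

/-- The coordinates of a lift to a chart are the pulled back ratios. -/
theorem coords_lift_eq {n : ℕ} {X : Scheme.{u}} (r : X ⟶ CohB1.ProjSpace n (ULift.{u} ℤ)) {a : Fin (n + 1)}
    {U : X.Opens} (h : U ≤ r ⁻¹ᵁ Proj.basicOpen (CohB1.polyGrading n (ULift.{u} ℤ)) (MvPolynomial.X a))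
    (q : U.toScheme ⟶ Spec (SegreX.chartRing n a)) (hq : q ≫ SegreX.chart n a = U.ι ≫ r) (l : Fin (n + 1)) :
    SegreX.coords q l = U.ι.appLE U ⊤ U.ι_preimage_self.ge
      (ProjUPX.ratioOf r (ProjPt.X_mem l) (ProjPt.X_mem a) h) := by
  let D := Proj.basicOpen (CohB1.polyGrading n (ULift.{u} ℤ)) (MvPolynomial.X a)
  have e1 : (⊤ : (Spec (SegreX.chartRing n a)).Opens) ≤ SegreX.chart n a ⁻¹ᵁ D := by
    intro z _
    show SegreX.chart n a z ∈ (D : Set (Proj (CohB1.polyGrading n (ULift.{u} ℤ))))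
    exact (SegreX.range_chart n a).le (Set.mem_range_self z)
  have key : Proj.awayToSection (CohB1.polyGrading n (ULift.{u} ℤ)) (MvPolynomial.X a) ≫ r.appLE D U h ≫
      U.ι.appLE U ⊤ U.ι_preimage_self.ge =
      (Scheme.ΓSpecIso (SegreX.chartRing n a)).inv ≫ q.appTop := by
    rw [Scheme.Hom.appLE_comp_appLE]
    simp only [← hq]
    rw [← Scheme.Hom.appLE_comp_appLE q _ _ ⊤ ⊤ e1 le_top, ← Category.assoc, ProjPt.awayι_appLE]
    congr 1
    exact (q.app_eq_appLE (U := ⊤)).symm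
  show ((Scheme.ΓSpecIso (SegreX.chartRing n a)).inv ≫ q.appTop) (ProjPt.crd a l) = _
  rw [← key]
  rfl

theorem isRelVeryAmplePn_tensor_generated {X S : Scheme.{u}} [IsAffine S] (q : X ⟶ S)
    {L L' : X.Modules} (hL : PicF.IsInvertible L) (hva : RelAmple.IsRelVeryAmplePn q L)
    (hL' : PicF.IsInvertible L') {m : ℕ} (y : Fin m → Γ(L', ⊤)) (hy : ProjUP.GeneratedBy L' y) :
    RelAmple.IsRelVeryAmplePn q (CohB1.tensorMod L L') := by
  classical
  obtain ⟨n, i, hi, hc, ⟨e⟩⟩ := hva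
  let A := ULift.{u} ℤ
  let fstn : CohB1.ProjSpaceOver n S ⟶ CohB1.ProjSpace n A :=
    pullback.fst (CohB1.ProjSpace.toSpec n A) (specULiftZIsTerminal.from S)
  let sndn : CohB1.ProjSpaceOver n S ⟶ S :=
    pullback.snd (CohB1.ProjSpace.toSpec n A) (specULiftZIsTerminal.from S)
  let r₀ : X ⟶ CohB1.ProjSpace n A := i ≫ fstn
  let τ₀ : (Scheme.Modules.pullback r₀).obj (Twist.twistProjSpace n A 1) ≅ L :=
    ((Scheme.Modules.pullbackComp i fstn).app _).symm ≪≫ e.symm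
  let x : Fin (n + 1) → Γ(L, ⊤) := fun a =>
    τ₀.hom.app ⊤ (ProjUP.pullSec r₀ _ (ProjUP.coord n A a))
  let D : Fin (n + 1) → (CohB1.ProjSpace n A).Opens := fun a =>
    Proj.basicOpen (CohB1.polyGrading n A) (MvPolynomial.X a)
  have hpre₀ : ∀ a, r₀ ⁻¹ᵁ D a = TrivBasic.locus (x a) := fun a => AmpleEmbed.preimage_chart r₀ τ₀ a rfl
  have hM := InvX.isInvertible_tensorMod hL hL'
  obtain ⟨N, ⟨ε⟩⟩ : ∃ N, Nonempty (Fin (N + 1) ≃ Option (Fin (n + 1) × Fin m)) :=
    ⟨Fintype.card (Fin (n + 1) × Fin m), ⟨(finCongr Fintype.card_option.symm).trans (Fintype.equivFin _).symm⟩⟩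
  let el : Option (Fin (n + 1) × Fin m) → Γ(CohB1.tensorMod L L', ⊤) :=
    fun o => o.elim 0 fun p => InvX.tmul (x p.1) (y p.2)
  let s : Fin (N + 1) → Γ(CohB1.tensorMod L L', ⊤) := fun j => el (ε j)
  have hsp : ∀ a b, s (ε.symm (some (a, b))) = InvX.tmul (x a) (y b) := fun a b => by
    show el (ε (ε.symm _)) = _
    rw [Equiv.apply_symm_apply]; rfl
  have hcov : ∀ p : X, ∃ ab : Fin (n + 1) × Fin m, p ∈ TrivBasic.locus (x ab.1) ⊓ TrivBasic.locus (y ab.2) := by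
    intro p
    obtain ⟨a, ha⟩ := ProjUPX.cov_X (r₀.base p)
    obtain ⟨b, hb⟩ := exists_mem_locus_of_generatedBy hL' hy p
    exact ⟨(a, b), (hpre₀ a).le ha, hb⟩
  have hs : ProjUP.GeneratedBy (CohB1.tensorMod L L') s := fun p => by
    obtain ⟨⟨a, b⟩, hp⟩ := hcov p
    refine eq_top_iff.2 fun z _ => ?_
    have hfr : InvX.IsFrame (AModX.res (CohB1.tensorMod L L')
        (le_top : TrivBasic.locus (x a) ⊓ TrivBasic.locus (y b) ≤ ⊤) (InvX.tmul (x a) (y b))) := by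
      rw [res_tmul]
      exact isFrame_tmul (TrivBasic.isFrame_res_of_le_locus inf_le_left)
        (TrivBasic.isFrame_res_of_le_locus inf_le_right)
    obtain ⟨c, hc'⟩ := (hfr.germ_bijective hp).2 z
    rw [← hc']
    refine Submodule.smul_mem _ c (Submodule.subset_span ⟨ε.symm (some (a, b)), ?_⟩)
    show ((CohB1.tensorMod L L').presheaf.germ ⊤ p trivial).hom (s _) = _
    rw [hsp, InvX.germ_res']
  obtain ⟨r, -, τ, hτ⟩ := S3572.result N (specULiftZIsTerminal.from X) _ hM s hs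
  let fst : CohB1.ProjSpaceOver N S ⟶ CohB1.ProjSpace N A :=
    pullback.fst (CohB1.ProjSpace.toSpec N A) (specULiftZIsTerminal.from S)
  let snd : CohB1.ProjSpaceOver N S ⟶ S :=
    pullback.snd (CohB1.ProjSpace.toSpec N A) (specULiftZIsTerminal.from S)
  let φ : X ⟶ CohB1.ProjSpaceOver N S := pullback.lift r q (specULiftZIsTerminal.hom_ext _ _)
  have hφ1 : φ ≫ fst = r := pullback.lift_fst _ _ _
  have hφ2 : φ ≫ snd = q := pullback.lift_snd _ _ _
  refine ⟨N, φ, ?_, hφ2, ⟨τ.symm ≪≫ (Scheme.Modules.pullbackCongr hφ1.symm).app _ ≪≫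
    ((Scheme.Modules.pullbackComp φ fst).app _).symm⟩⟩
  let W : ULift.{u} (Fin (n + 1) × Fin m) → (CohB1.ProjSpaceOver N S).Opens := fun p =>
    fst ⁻¹ᵁ Proj.basicOpen (CohB1.polyGrading N A) (MvPolynomial.X (ε.symm (some p.down)))
  have hpre : ∀ p, φ ⁻¹ᵁ W p = TrivBasic.locus (x p.down.1) ⊓ TrivBasic.locus (y p.down.2) := fun p => by
    rw [← locus_tmul' hL hL', ← hsp p.down.1 p.down.2, ← AmpleEmbed.preimage_chart r τ _ (hτ _),
      ← Scheme.Hom.comp_preimage, hφ1]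
  refine isImmersion_of_immersion_on φ W (fun p => ?_) fun p => ?_
  · obtain ⟨ab, hab⟩ := hcov p
    exact ⟨⟨ab⟩, (hpre ⟨ab⟩).ge hab⟩
  obtain ⟨a, b⟩ := p
  let k := ε.symm (some (a, b))
  -- lifts to the charts
  let U : X.Opens := φ ⁻¹ᵁ W ⟨(a, b)⟩
  have hU : U = TrivBasic.locus (x a) ⊓ TrivBasic.locus (y b) := hpre ⟨(a, b)⟩
  have hUa : U ≤ r₀ ⁻¹ᵁ D a := by rw [hpre₀, hU]; exact inf_le_left
  have hUk : U ≤ r ⁻¹ᵁ Proj.basicOpen (CohB1.polyGrading N A) (MvPolynomial.X k) := by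
    rw [← hφ1]; exact le_rfl
  obtain ⟨qW, hqW⟩ : ∃ qW : (W ⟨(a, b)⟩).toScheme ⟶ Spec (SegreX.chartRing N k),
      qW ≫ SegreX.chart N k = (W ⟨(a, b)⟩).ι ≫ fst := by
    refine ⟨IsOpenImmersion.lift (SegreX.chart N k) _ ?_, IsOpenImmersion.lift_fac _ _ _⟩
    rw [SegreX.range_chart]
    rintro _ ⟨z, rfl⟩
    exact z.2
  obtain ⟨qa, hqa⟩ : ∃ qa : U.toScheme ⟶ Spec (SegreX.chartRing n a), qa ≫ SegreX.chart n a = U.ι ≫ r₀ := by
    refine ⟨IsOpenImmersion.lift (SegreX.chart n a) _ ?_, IsOpenImmersion.lift_fac _ _ _⟩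
    rw [SegreX.range_chart]
    rintro _ ⟨z, rfl⟩
    exact hUa z.2
  let qk : U.toScheme ⟶ Spec (SegreX.chartRing N k) := (φ ∣_ W ⟨(a, b)⟩) ≫ qW
  have hqk : qk ≫ SegreX.chart N k = U.ι ≫ r := by
    rw [Category.assoc, hqW, ← Category.assoc, morphismRestrict_ι, Category.assoc, hφ1]
  let v : Fin (n + 1) → Γ((W ⟨(a, b)⟩).toScheme, ⊤) := fun l =>
    SegreX.coords qW (ε.symm (some (l, b)))
  have hv : IsUnit (v a) := by
    show IsUnit (SegreX.coords qW k)
    rw [SegreX.coords_self]; exact isUnit_one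
  let g : (W ⟨(a, b)⟩).toScheme ⟶ CohB1.ProjSpaceOver n S :=
    pullback.lift (SegreX.ptS v a hv) ((W ⟨(a, b)⟩).ι ≫ snd) (specULiftZIsTerminal.hom_ext _ _)
  have hg : (φ ∣_ W ⟨(a, b)⟩) ≫ g = U.ι ≫ i := by
    refine pullback.hom_ext ?_ ?_
    · rw [Category.assoc, pullback.lift_fst, SegreX.comp_ptS, Category.assoc]
      show _ = U.ι ≫ r₀
      rw [← hqa, SegreX.chart_eq_ptS]
      congr 1
      funext l
      show (φ ∣_ W ⟨(a, b)⟩).appTop (SegreX.coords qW _) = _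
      rw [← SegreX.coords_comp]
      show SegreX.coords qk _ = _
      rw [coords_lift_eq r hUk qk hqk, coords_lift_eq r₀ hUa qa hqa]
      congr 1
      refine AmpleEmbed.ratioOf_eq r τ _ _ ((hτ k).trans (hsp a b)) ((hτ _).trans (hsp l b)) hUk _ ?_
      have h1 : AModX.res L (le_top : U ≤ ⊤) (x l) =
          ProjUPX.ratioOf r₀ (ProjPt.X_mem l) (ProjPt.X_mem a) hUa • AModX.res L (le_top : U ≤ ⊤) (x a) := by
        show AModX.res L _ (τ₀.hom.app ⊤ _) = _ • AModX.res L _ (τ₀.hom.app ⊤ _)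
        rw [← AModX.app_res τ₀.hom, ← AModX.app_res τ₀.hom, ← Scheme.Modules.Hom.app_smul]
        exact congrArg _ (ProjUPX.res_pullG r₀ _ _ hUa)
      rw [res_tmul, res_tmul, h1, InvX.tmul_smul_left]
    · rw [Category.assoc, pullback.lift_snd, ← Category.assoc, morphismRestrict_ι, Category.assoc, Category.assoc,
        hφ2, hc]
  haveI : IsImmersion ((φ ∣_ W ⟨(a, b)⟩) ≫ g) := by rw [hg]; infer_instance
  exact IsImmersion.of_comp _ g
where
  locus_tmul' {X : Scheme.{u}} {A B : X.Modules} (hA : PicF.IsInvertible A) (hB : PicF.IsInvertible B)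
      {a : Γ(A, ⊤)} {b : Γ(B, ⊤)} :
      TrivBasic.locus (InvX.tmul a b) = TrivBasic.locus a ⊓ TrivBasic.locus b := by
    have h := genLocus_mulHom hA hB (ofSect a) (ofSect b)
    rwa [mulHom, one_ofSect, one_ofSect] at h

end Groth.Agent.VAmpleX
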