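import Groth.Agent.VAmpleX.Eventually
import Groth.Agent.AmpleX.Separated

/-!
# High powers of an ample module are very ample over any base
-/

universe u

set_option backward.isDefEq.respectTransparency false
set_option backward.isDefEq.respectTransparency.types false
set_option linter.style.haveILetI false
set_option maxHeartbeats 800000

open CategoryTheory CategoryTheory.Limits AlgebraicGeometry TopologicalSpace HomogeneousLocalization

namespace Groth.Agent.VAmpleX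

open Groth.Agent Groth.Agent.H23 Groth.Agent.InvX

/-- An invertible module with sections as below is very ample for the projection to an affine base. -/
theorem exists_immersion_gen {X Y : Scheme.{u}} (q : X ⟶ Y) (M : X.Modules) (hM : PicF.IsInvertible M)
    {κ : Type u} [Fintype κ] (S : κ → Γ(M, ⊤)) (haff : ∀ i, IsAffineOpen (TrivBasic.locus (S i)))
    (hcov : ∀ x : X, ∃ i, x ∈ TrivBasic.locus (S i)) (O : κ → Y.Opens) (hO : ∀ i, IsAffineOpen (O i))
    (hle : ∀ i, TrivBasic.locus (S i) ≤ q ⁻¹ᵁ O i) (β : κ → Type u) [∀ i, Fintype (β i)]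
    (b : ∀ i, β i → Γ(X, TrivBasic.locus (S i))) (T : ∀ i, β i → Γ(M, ⊤))
    (hT : ∀ i j, AModX.res M (le_top : TrivBasic.locus (S i) ≤ ⊤) (T i j) =
      b i j • AModX.res M (le_top : TrivBasic.locus (S i) ≤ ⊤) (S i))
    (hgen : ∀ i (P : Subring Γ(X, TrivBasic.locus (S i))),
      Set.range (q.appLE (O i) (TrivBasic.locus (S i)) (hle i)) ⊆ P → Set.range (b i) ⊆ P → P = ⊤) :
    RelAmple.IsRelVeryAmplePn q M := by
  classical
  obtain ⟨n, ⟨e⟩⟩ : ∃ n, Nonempty (Fin (n + 1) ≃ Option (κ ⊕ Σ i, β i)) :=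
    ⟨Fintype.card (κ ⊕ Σ i, β i), ⟨(finCongr Fintype.card_option.symm).trans (Fintype.equivFin _).symm⟩⟩
  let el : Option (κ ⊕ Σ i, β i) → Γ(M, ⊤) := fun o => o.elim 0 (Sum.elim S fun p => T p.1 p.2)
  let s : Fin (n + 1) → Γ(M, ⊤) := fun j => el (e j)
  have hs : ProjUP.GeneratedBy M s := fun x => by
    obtain ⟨i, hi⟩ := hcov x
    refine eq_top_iff.2 fun z _ => ?_
    obtain ⟨c, hc⟩ := ((TrivBasic.isFrame_res_of_le_locus (le_refl (TrivBasic.locus (S i)))).germ_bijective hi).2 z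
    rw [← hc]
    refine Submodule.smul_mem _ c (Submodule.subset_span ⟨e.symm (some (Sum.inl i)), ?_⟩)
    show (M.presheaf.germ ⊤ x trivial).hom (el (e (e.symm _))) = _
    rw [Equiv.apply_symm_apply]
    exact (InvX.germ_res' (le_top : TrivBasic.locus (S i) ≤ ⊤) hi (S i)).symm
  obtain ⟨r, -, τ, hτ⟩ := S3572.result n (specULiftZIsTerminal.from X) M hM s hs
  let fst : CohB1.ProjSpaceOver n Y ⟶ CohB1.ProjSpace n (ULift.{u} ℤ) :=
    pullback.fst (CohB1.ProjSpace.toSpec n (ULift.{u} ℤ)) (specULiftZIsTerminal.from Y)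
  let snd : CohB1.ProjSpaceOver n Y ⟶ Y :=
    pullback.snd (CohB1.ProjSpace.toSpec n (ULift.{u} ℤ)) (specULiftZIsTerminal.from Y)
  let i : X ⟶ CohB1.ProjSpaceOver n Y := pullback.lift r q (specULiftZIsTerminal.hom_ext _ _)
  have hi1 : i ≫ fst = r := pullback.lift_fst _ _ _
  have hi2 : i ≫ snd = q := pullback.lift_snd _ _ _
  refine ⟨n, i, ?_, hi2, ⟨τ.symm ≪≫ (Scheme.Modules.pullbackCongr hi1.symm).app _ ≪≫
    ((Scheme.Modules.pullbackComp i fst).app _).symm⟩⟩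
  let D : κ → (CohB1.ProjSpace n (ULift.{u} ℤ)).Opens := fun k =>
    Proj.basicOpen (CohB1.polyGrading n (ULift.{u} ℤ)) (MvPolynomial.X (e.symm (some (Sum.inl k))))
  have hτS : ∀ k, τ.hom.app ⊤ (ProjUP.pullSec r _ (ProjUP.coord n (ULift.{u} ℤ) (e.symm (some (Sum.inl k))))) = S k :=
    fun k => by rw [hτ]; show el _ = _; rw [Equiv.apply_symm_apply]; rfl
  have hτT : ∀ p : Σ i, β i,
      τ.hom.app ⊤ (ProjUP.pullSec r _ (ProjUP.coord n (ULift.{u} ℤ) (e.symm (some (Sum.inr p))))) = T p.1 p.2 :=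
    fun p => by rw [hτ]; show el _ = _; rw [Equiv.apply_symm_apply]; rfl
  have hpre : ∀ k, r ⁻¹ᵁ D k = TrivBasic.locus (S k) := fun k => AmpleEmbed.preimage_chart r τ _ (hτS k)
  let W : κ → (CohB1.ProjSpaceOver n Y).Opens := fun k => fst ⁻¹ᵁ D k ⊓ snd ⁻¹ᵁ O k
  have hpreW : ∀ k, i ⁻¹ᵁ W k = TrivBasic.locus (S k) := fun k => by
    show i ⁻¹ᵁ fst ⁻¹ᵁ D k ⊓ i ⁻¹ᵁ snd ⁻¹ᵁ O k = _
    rw [← Scheme.Hom.comp_preimage, ← Scheme.Hom.comp_preimage, hi1, hi2, hpre k]
    exact inf_eq_left.2 (hle k)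
  refine isImmersion_of_closed_on i W (fun x => ?_) fun k => ?_
  · obtain ⟨k, hk⟩ := hcov x
    exact ⟨k, show x ∈ i ⁻¹ᵁ W k from (hpreW k).ge hk⟩
  haveI : IsAffine (W k : Scheme) := by
    have hc : IsPullback fst snd (CohB1.ProjSpace.toSpec n (ULift.{u} ℤ)) (specULiftZIsTerminal.from Y) :=
      IsPullback.of_hasPullback _ _
    haveI : IsAffine _ := hO k
    haveI : IsAffine _ := (Proj.isAffineOpen_basicOpen (CohB1.polyGrading n (ULift.{u} ℤ))
      (MvPolynomial.X (e.symm (some (Sum.inl k)))) (ProjPt.X_mem _) one_pos)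
    haveI : IsAffine _ := isAffineOpen_top (Spec (CommRingCat.of (ULift.{u} ℤ)))
    exact .of_isIso (Scheme.Hom.isPullback_resLE hc (US := ⊤) (UT := O k) (UX := D k) le_top le_top (UY := W k) rfl).isoPullback.hom
  haveI : IsAffine (i ⁻¹ᵁ W k : Scheme) := by rw [hpreW]; exact haff k
  refine IsClosedImmersion.of_surjective_of_isAffine _ ?_
  have hsurj : Function.Surjective (i.appLE (W k) (TrivBasic.locus (S k)) (hpreW k).ge) := by
    refine RingHom.range_eq_top.1 (hgen k _ ?_ ?_)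
    · rintro _ ⟨c, rfl⟩
      refine ⟨snd.appLE (O k) (W k) inf_le_right c, ?_⟩
      rw [← CommRingCat.comp_apply, Scheme.Hom.appLE_comp_appLE]
      simp only [hi2]
    · rintro _ ⟨j, rfl⟩
      refine ⟨fst.appLE (D k) (W k) inf_le_left
        ((Proj.awayToSection (CohB1.polyGrading n (ULift.{u} ℤ)) (MvPolynomial.X (e.symm (some (Sum.inl k))))).hom
          (Away.mk (CohB1.polyGrading n (ULift.{u} ℤ)) (ProjPt.X_mem _) 1
            (MvPolynomial.X (e.symm (some (Sum.inr ⟨k, j⟩)))) (by rw [one_smul]; exact ProjPt.X_mem _))), ?_⟩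
      rw [← CommRingCat.comp_apply, Scheme.Hom.appLE_comp_appLE]
      simp only [hi1]
      exact AmpleEmbed.ratioOf_eq r τ _ _ (hτS k) (hτT ⟨k, j⟩) (hpre k).ge (b k j) (hT k j)
  intro z
  rw [morphismRestrict_appTop]
  obtain ⟨y, hy⟩ := hsurj (X.presheaf.map (eqToHom (hpreW k).symm).op
    ((i ⁻¹ᵁ W k).topIso.hom z))
  refine ⟨(W k).topIso.inv y, (ConcreteCategory.bijective_of_isIso (i ⁻¹ᵁ W k).topIso.hom).1 ?_⟩
  apply (ConcreteCategory.bijective_of_isIso (X.presheaf.map (eqToHom (hpreW k).symm).op)).1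
  rw [← hy]
  simp only [← CommRingCat.comp_apply]
  congr 2
  simp only [Scheme.Hom.appLE, Scheme.Opens.topIso, Category.assoc]
  simp [← Functor.map_comp]
  rw [i.naturality_assoc, ← Functor.map_comp]
  rfl

/-- The same with names for the loci. -/
theorem exists_immersion_gen' {X Y : Scheme.{u}} (q : X ⟶ Y) (M : X.Modules) (hM : PicF.IsInvertible M)
    {κ : Type u} [Fintype κ] (S : κ → Γ(M, ⊤)) (V : κ → X.Opens) (hV : ∀ i, TrivBasic.locus (S i) = V i)
    (haff : ∀ i, IsAffineOpen (V i)) (hcov : ∀ x : X, ∃ i, x ∈ V i) (O : κ → Y.Opens) (hO : ∀ i, IsAffineOpen (O i))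
    (hle : ∀ i, V i ≤ q ⁻¹ᵁ O i) (β : κ → Type u) [∀ i, Fintype (β i)]
    (b : ∀ i, β i → Γ(X, V i)) (T : ∀ i, β i → Γ(M, ⊤))
    (hT : ∀ i j, AModX.res M (le_top : V i ≤ ⊤) (T i j) = b i j • AModX.res M (le_top : V i ≤ ⊤) (S i))
    (hgen : ∀ i (P : Subring Γ(X, V i)), Set.range (q.appLE (O i) (V i) (hle i)) ⊆ P → Set.range (b i) ⊆ P → P = ⊤) :
    RelAmple.IsRelVeryAmplePn q M := by
  obtain rfl : V = fun i => TrivBasic.locus (S i) := funext fun i => (hV i).symm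
  exact exists_immersion_gen q M hM S haff hcov O hO hle β b T hT hgen

set_option maxHeartbeats 1600000 in
/-- The sections `Z i o ⊗ s i` give an immersion, once they restrict to the generators on the charts. -/
theorem veryAmple_of_extend_gen {X Y : Scheme.{u}} (q : X ⟶ Y) {A P : X.Modules}
    (hA : PicF.IsInvertible A) (hP : PicF.IsInvertible P) {ι : Type u} [Fintype ι] (U : ι → X.Opens)
    (haff : ∀ i, IsAffineOpen (U i)) (s : ι → Γ(P, ⊤)) (hs : ∀ i, TrivBasic.locus (s i) = U i)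
    (g : ∀ i, Γ(X, U i)) (hcov : ∀ x : X, ∃ i, x ∈ X.basicOpen (g i)) (E : ∀ i, Γ(A, U i))
    (hE : ∀ i, InvX.IsFrame (AModX.res A (X.basicOpen_le (g i)) (E i))) (O : ι → Y.Opens) (hO : ∀ i, IsAffineOpen (O i))
    (hle : ∀ i, U i ≤ q ⁻¹ᵁ O i) (G : ∀ i, Finset Γ(X, U i))
    (hG : ∀ i (R : Subring Γ(X, U i)), Set.range (q.appLE (O i) (U i) (hle i)) ⊆ (R : Set Γ(X, U i)) →
      (G i : Set Γ(X, U i)) ⊆ (R : Set Γ(X, U i)) → R = ⊤)
    (Z0 Z1 : ι → Γ(A, ⊤)) (hZ0 : ∀ i, AModX.res A (le_top : U i ≤ ⊤) (Z0 i) = g i • E i)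
    (hZ1 : ∀ i, AModX.res A (le_top : U i ≤ ⊤) (Z1 i) = E i)
    (Z : ∀ i, G i → Γ(A, ⊤)) (hZ : ∀ i b, AModX.res A (le_top : U i ≤ ⊤) (Z i b) = (b.1 * g i) • E i) :
    RelAmple.IsRelVeryAmplePn q (CohB1.tensorMod A P) := by
  classical
  have hgu : ∀ i, IsUnit (AModX.resR (X.basicOpen_le (g i)) (g i)) := fun i =>
    RingedSpace.isUnit_res_basicOpen X.toRingedSpace (g i)
  obtain ⟨v, hv⟩ : ∃ v : ∀ i, Γ(X, X.basicOpen (g i)), ∀ i, AModX.resR (X.basicOpen_le (g i)) (g i) * v i = 1 :=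
    ⟨fun i => ↑(hgu i).unit⁻¹, fun i => (hgu i).mul_val_inv⟩
  have hloc : ∀ i, TrivBasic.locus (InvX.tmul (Z0 i) (s i)) = X.basicOpen (g i) := fun i => by
    rw [locus_tmul hA hP, hs]
    refine locus_inf_eq_basicOpen _ (g i) (E i) (hZ0 i) ?_
    rw [← AModX.res_res (le_top : U i ≤ ⊤) (X.basicOpen_le (g i)), hZ0, AModX.res_smul]
    exact (hE i).isUnit_smul (hgu i)
  have key : ∀ i (z : Γ(A, ⊤)) (c : Γ(X, U i)), AModX.res A (le_top : U i ≤ ⊤) z = c • E i →
      AModX.res (CohB1.tensorMod A P) (le_top : X.basicOpen (g i) ≤ ⊤) (InvX.tmul z (s i)) =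
        AModX.resR (X.basicOpen_le (g i)) c • InvX.tmul (AModX.res A (X.basicOpen_le (g i)) (E i))
          (AModX.res P (le_top : X.basicOpen (g i) ≤ ⊤) (s i)) := fun i z c h => by
    rw [res_tmul, ← AModX.res_res (le_top : U i ≤ ⊤) (X.basicOpen_le (g i)) z, h, AModX.res_smul,
      InvX.tmul_smul_left]
  refine exists_immersion_gen' q _ (InvX.isInvertible_tensorMod hA hP) (fun i => InvX.tmul (Z0 i) (s i))
    (fun i => X.basicOpen (g i)) hloc (fun i => (haff i).basicOpen _) hcov O hO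
    (fun i => (X.basicOpen_le (g i)).trans (hle i)) (fun i => Option (G i))
    (fun i o => o.elim (v i) fun b => AModX.resR (X.basicOpen_le (g i)) b.1)
    (fun i o => InvX.tmul (o.elim (Z1 i) (Z i)) (s i)) (fun i o => ?_) fun i R h1 h2 => ?_
  · rw [key i (Z0 i) (g i) (hZ0 i)]
    rcases o with _ | b <;> dsimp only [Option.elim]
    · rw [key i (Z1 i) 1 ((hZ1 i).trans (one_smul _ _).symm), map_one, one_smul]
      show _ = v i • _
      rw [← mul_smul, mul_comm, hv, one_smul]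
    · rw [key i (Z i b) _ (hZ i b), map_mul, mul_smul]
  · have hU : ∀ z, AModX.resR (X.basicOpen_le (g i)) z ∈ R := fun z => by
      have h3 := hG i (R.comap (AModX.resR (X.basicOpen_le (g i)))) (by
        rintro _ ⟨c, rfl⟩
        refine h1 ⟨c, ?_⟩
        show (q.appLE (O i) _ _) c = (X.presheaf.map (homOfLE (X.basicOpen_le (g i))).op) ((q.appLE (O i) _ (hle i)) c)
        rw [← CommRingCat.comp_apply, Scheme.Hom.appLE_map]) fun b hb => h2 ⟨some ⟨b, hb⟩, rfl⟩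
      exact h3.ge (Subring.mem_top z)
    refine top_le_iff.1 fun z _ => ?_
    haveI := (haff i).isLocalization_basicOpen (g i)
    obtain ⟨⟨a, ⟨_, j, rfl⟩⟩, hz⟩ := IsLocalization.surj (Submonoid.powers (g i)) z
    have hz' : z * AModX.resR (X.basicOpen_le (g i)) (g i) ^ j = AModX.resR (X.basicOpen_le (g i)) a := by
      rw [← map_pow]
      exact hz
    rw [show z = AModX.resR (X.basicOpen_le (g i)) a * v i ^ j by
      rw [← hz', mul_assoc, ← mul_pow, hv, one_pow, mul_one]]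
    exact R.mul_mem (hU a) (R.pow_mem (h2 ⟨none, rfl⟩) j)

set_option maxHeartbeats 2000000 in
theorem exists_bound_residue_gen {X Y : Scheme.{u}} (q : X ⟶ Y) [LocallyOfFiniteType q]
    [CompactSpace X] [X.IsSeparated] {L'' P : X.Modules} (hL'' : PicF.IsInvertible L'') (hP : PicF.IsInvertible P) {κ : Type u}
    [Fintype κ] (σ : κ → (Coh.structureModule X ⟶ P)) (haff : ∀ k, IsAffineOpen (CohB1.genLocus P (σ k)))
    (hcov : ∀ x : X, ∃ k, x ∈ CohB1.genLocus P (σ k)) (O : κ → Y.Opens) (hO : ∀ k, IsAffineOpen (O k))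
    (hle : ∀ k, CohB1.genLocus P (σ k) ≤ q ⁻¹ᵁ O k) :
    ∃ m₀, ∀ m, m₀ ≤ m → RelAmple.IsRelVeryAmplePn q
      (CohB1.tensorMod (CohB1.tensorMod L'' (CohB1.tensorPow P m)) P) := by
  classical
  have hq := ProjUPX.isQCoh_of_isInvertible hL''
  -- charts
  have hx : ∀ x : X, ∃ (k : κ) (g : Γ(X, CohB1.genLocus P (σ k))) (t : Γ(L'', CohB1.genLocus P (σ k))),
      x ∈ X.basicOpen g ∧ InvX.IsFrame (AModX.res L'' (X.basicOpen_le g) t) := by
    intro x
    obtain ⟨k, hk⟩ := hcov x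
    obtain ⟨O, hxO, e, he⟩ := exists_frame hL'' x
    obtain ⟨g, hg, hxg⟩ := (haff k).exists_basicOpen_le ⟨x, hxO⟩ hk
    obtain ⟨N, t, ht⟩ := QCoh.exists_pow_smul_eq_map hq (haff k) g (AModX.res L'' hg e)
    refine ⟨k, g, t, hxg, ?_⟩
    rw [show AModX.res L'' (X.basicOpen_le g) t = _ from ht]
    exact (he.res hg).isUnit_smul ((RingedSpace.isUnit_res_basicOpen X.toRingedSpace g).pow N)
  choose k g t hxg ht using hx
  obtain ⟨Sx, hSx⟩ := isCompact_univ.elim_finite_subcover (fun x => (X.basicOpen (g x) : Set X))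
    (fun x => (X.basicOpen (g x)).2) (fun x _ => Set.mem_iUnion.2 ⟨x, hxg x⟩)
  have hgenU : ∀ x, ∃ G : Finset Γ(X, CohB1.genLocus P (σ (k x))),
      ∀ R : Subring Γ(X, CohB1.genLocus P (σ (k x))),
        Set.range (q.appLE (O (k x)) (CohB1.genLocus P (σ (k x))) (hle (k x))) ⊆ (R : Set Γ(X, CohB1.genLocus P (σ (k x)))) →
          (G : Set Γ(X, CohB1.genLocus P (σ (k x)))) ⊆ (R : Set Γ(X, CohB1.genLocus P (σ (k x)))) → R = ⊤ := fun x => by
    letI := (q.appLE (O (k x)) (CohB1.genLocus P (σ (k x))) (hle (k x))).hom.toAlgebra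
    obtain ⟨G, hG⟩ := (show Algebra.FiniteType Γ(Y, O (k x)) Γ(X, CohB1.genLocus P (σ (k x))) from
      q.finiteType_appLE (hO (k x)) (haff (k x)) (hle (k x))).out
    refine ⟨G, fun S h1 h2 => top_le_iff.1 fun z hz0 => ?_⟩
    clear hz0
    have hz : z ∈ Algebra.adjoin Γ(Y, O (k x)) (G : Set Γ(X, CohB1.genLocus P (σ (k x)))) := hG ▸ Algebra.mem_top
    induction hz using Algebra.adjoin_induction with
    | mem y hy => exact h2 hy
    | algebraMap c => exact h1 ⟨c, rfl⟩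
    | add y z _ _ hy hz => exact S.add_mem hy hz
    | mul y z _ _ hy hz => exact S.mul_mem hy hz
  choose G hG using hgenU
  -- sections to extend: coefficients times `t`
  let ι := ↥Sx
  let coef : ∀ x : ι, Option (Option (G x.1)) → Γ(X, CohB1.genLocus P (σ (k x.1))) := fun x o =>
    o.elim (g x.1) fun o' => o'.elim 1 fun b => b.1 * g x.1
  choose n₀ hn₀ using fun p : Σ x : ι, Option (Option (G x.1)) =>
    AmpleX.exists_extend hq hP (σ (k p.1.1)) (coef p.1 p.2 • t p.1.1)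
  refine ⟨Finset.univ.sup n₀, fun m hm => ?_⟩
  choose Z hZ using fun p : Σ x : ι, Option (Option (G x.1)) =>
    hn₀ p m ((Finset.le_sup (Finset.mem_univ p)).trans hm)
  have hA := InvX.isInvertible_tensorMod hL'' (InvX.isInvertible_tensorPow hP m)
  have hσ : ∀ x, TrivBasic.locus (one (σ x)) = CohB1.genLocus P (σ x) := fun x => by
    have h1 : InvX.ofSect (one (σ x)) = σ x := sub_eq_zero.1 (AmpleX.eq_zero_of_one_eq_zero _ (by
      show one (ofSect (one (σ x))) - one (σ x) = 0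
      rw [one_ofSect, sub_self]))
    show CohB1.genLocus P (InvX.ofSect (one (σ x))) = _
    rw [h1]
  refine veryAmple_of_extend_gen q hA hP (fun x : ι => CohB1.genLocus P (σ (k x.1))) (fun x => haff _)
    (fun x => one (σ (k x.1))) (fun x => hσ _) (fun x => g x.1) (fun p => ?_)
    (fun x => InvX.tmul (t x.1) (AmpleX.powElt
      (AModX.res P (le_top : CohB1.genLocus P (σ (k x.1)) ≤ ⊤) (one (σ (k x.1)))) m)) (fun x => ?_)
    (fun x => O (k x.1)) (fun x => hO _) (fun x => hle _) (fun x => G x.1) (fun x => hG x.1) (fun x => Z ⟨x, none⟩) (fun x => Z ⟨x, some none⟩) (fun x => ?_) (fun x => ?_)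
    (fun x b => Z ⟨x, some (some b)⟩) fun x b => ?_
  · obtain ⟨x, hx, hp⟩ := Set.mem_iUnion₂.1 (hSx (Set.mem_univ p))
    exact ⟨⟨x, hx⟩, hp⟩
  · rw [res_tmul, AmpleX.res_powElt, AModX.res_res]
    refine isFrame_tmul (ht x.1) (AmpleX.isFrame_powElt ?_ m)
    exact TrivBasic.isFrame_res_of_le_locus ((X.basicOpen_le _).trans (hσ (k x.1)).ge)
  · rw [hZ ⟨x, none⟩, InvX.tmul_smul_left]; rfl
  · rw [hZ ⟨x, some none⟩, InvX.tmul_smul_left]; exact one_smul _ _
  · rw [hZ ⟨x, some (some b)⟩, InvX.tmul_smul_left]; rfl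

/-- Sections of the same positive degree with affine loci lying over affine opens of the target. -/
theorem exists_cover_over {X Y : Scheme.{u}} (q : X ⟶ Y) [CompactSpace X] [X.IsSeparated] {L : X.Modules}
    (hL : CohB1.IsAmple L) :
    ∃ (a : ℕ) (_ : 0 < a) (κ : Type u) (_ : Fintype κ) (σ : κ → (Coh.structureModule X ⟶ CohB1.tensorPow L a))
      (O : κ → Y.Opens), (∀ k, IsAffineOpen (O k)) ∧ (∀ k, IsAffineOpen (CohB1.genLocus _ (σ k))) ∧
      (∀ k, CohB1.genLocus _ (σ k) ≤ q ⁻¹ᵁ O k) ∧ ∀ x : X, ∃ k, x ∈ CohB1.genLocus _ (σ k) := by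
  classical
  have hloc : ∀ x : X, ∃ (m : ℕ) (_ : 0 < m) (s : Coh.structureModule X ⟶ CohB1.tensorPow L m) (V : Y.Opens),
      x ∈ CohB1.genLocus _ s ∧ IsAffineOpen (CohB1.genLocus _ s) ∧ IsAffineOpen V ∧
        CohB1.genLocus _ s ≤ q ⁻¹ᵁ V := fun x => by
    obtain ⟨V, hV, hxV, -⟩ := exists_isAffineOpen_mem_and_subset (X := Y) (x := q x) (U := ⊤) trivial
    obtain ⟨m, hm, s, hxs, hle, hs⟩ := AmpleX.exists_genLocus_le hL (U := q ⁻¹ᵁ V) hxV
    exact ⟨m, hm, s, V, hxs, hs, hV, hle⟩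
  choose m hm s V hxs hs hV hle using hloc
  obtain ⟨S, hS⟩ := isCompact_univ.elim_finite_subcover
    (fun x => (CohB1.genLocus _ (s x) : Set X)) (fun x => (CohB1.genLocus _ (s x)).2)
    (fun x _ => Set.mem_iUnion.2 ⟨x, hxs x⟩)
  let a := ∏ x ∈ S, m x
  have ha : 0 < a := Finset.prod_pos fun x _ => hm x
  have hpow : ∀ x : S, ∃ t : Coh.structureModule X ⟶ CohB1.tensorPow L a,
      CohB1.genLocus _ t = CohB1.genLocus _ (s x) := fun x => by
    obtain ⟨c, hc⟩ : m x ∣ a := Finset.dvd_prod_of_mem _ x.2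
    obtain ⟨k, rfl⟩ : ∃ k, c = k + 1 := Nat.exists_eq_add_of_le'
      (Nat.pos_of_ne_zero fun h0 => by rw [h0, mul_zero] at hc; exact ha.ne' hc)
    letI := PicMul.clMonoid X
    obtain ⟨t, ht⟩ := AmpleX.exists_section_of_cl_eq (B := CohB1.tensorPow L a)
      (by simp only [PicMul.cl_tensorPow]; rw [← pow_mul, hc]) (InvX.powHom (s x) (k + 1))
    exact ⟨t, ht.trans (InvX.genLocus_powHom (InvX.isInvertible_tensorPow hL.1 _) _ k)⟩
  choose t ht using hpow
  refine ⟨a, ha, S, inferInstance, t, fun x => V x, fun x => hV _, fun x => (ht x).symm ▸ hs x,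
    fun x => (ht x).le.trans (hle _), fun x => ?_⟩
  obtain ⟨y, hy, hxy⟩ := Set.mem_iUnion₂.1 (hS (Set.mem_univ x))
  exact ⟨⟨y, hy⟩, (ht ⟨y, hy⟩).symm ▸ hxy⟩

/-- High powers of an ample module are very ample over any base. -/
theorem eventually_veryAmple_gen {X Y : Scheme.{u}} (q : X ⟶ Y) [LocallyOfFiniteType q] {L : X.Modules}
    (hL : CohB1.IsAmple L) :
    ∃ n₀ : ℕ, ∀ n : ℕ, n₀ ≤ n → RelAmple.IsRelVeryAmplePn q (CohB1.tensorPow L n) := by
  classical
  haveI : CompactSpace X := hL.2.1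
  haveI : X.IsSeparated := AmpleX.isSeparated_of_isAmple hL
  obtain ⟨a, ha, κ, _, σ, O, hO, haff, hle, hcov⟩ := exists_cover_over q hL
  have hP := InvX.isInvertible_tensorPow hL.1 a
  choose m₀ hm₀ using fun r : Fin a => exists_bound_residue_gen q
    (InvX.isInvertible_tensorPow hL.1 r.1) hP σ haff hcov O hO hle
  refine ⟨a * (Finset.univ.sup m₀ + 1), fun n hn => ?_⟩
  let r : Fin a := ⟨n % a, Nat.mod_lt _ ha⟩
  have h1 : Finset.univ.sup m₀ + 1 ≤ n / a := (Nat.le_div_iff_mul_le ha).2 (by rwa [mul_comm])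
  obtain ⟨m, hm⟩ := Nat.exists_eq_add_of_le' (le_trans (Nat.le_add_left 1 _) h1)
  have h2 := hm₀ r m (by have := Finset.le_sup (f := m₀) (Finset.mem_univ r); omega)
  have hn' : n = r.1 + a * m + a := by
    have := Nat.mod_add_div n a
    rw [hm, Nat.mul_add, mul_one] at this
    show n = n % a + a * m + a
    omega
  letI := PicMul.clMonoid X
  have hcl : PicF.cl (CohB1.tensorMod (CohB1.tensorMod (CohB1.tensorPow L r.1)
      (CohB1.tensorPow (CohB1.tensorPow L a) m)) (CohB1.tensorPow L a)) =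
      PicF.cl (CohB1.tensorPow L n) := by
    simp only [PicMul.cl_tensor, PicMul.cl_tensorPow]
    rw [hn', pow_add, pow_add, pow_mul]
  obtain ⟨e⟩ := PicMul.cl_eq_iff.1 hcl
  exact isRelVeryAmplePn_of_iso q e h2

end Groth.Agent.VAmpleX
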